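import Groth.Agent.Lib.HomSES20.Main
import Groth.Agent.Lib.LocFreeDual20.Ext
import Groth.Agent.Lib.LocZ.Excision
import Groth.Agent.Lib.CurveMult.SlopeSplit
import Groth.Agent.Lib.CurveMult.TwistHom
import Groth.Agent.Lib.FundIso27.Iso
import Groth.Agent.Lib.GrassCat26.Basic

/-!
# `Ext¹(-, ω)` of modules with two-term resolutions by bundles
-/

set_option autoImplicit false
set_option maxHeartbeats 1000000
set_option linter.style.haveILetI false
set_option linter.unusedSectionVars false
set_option backward.isDefEq.respectTransparency false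

universe u

open CategoryTheory CategoryTheory.Limits AlgebraicGeometry
open GrothLib.LocFreeHom GrothLib.LocFreeDual20 GrothLib.OX

noncomputable section

namespace GrothLib.ExtOne28

attribute [local instance] LocFreeHom.hasSheafHom

variable {X : Scheme.{u}}

local instance (M : X.Modules) : ModSite.HasSheafHom (O := X.sheaf) M :=
  GrothLib.SheafCoh.hasSheafHom X.sheaf M

/-- The two functorialities of the internal Hom agree. -/
theorem siteHomIso_hMap {A E : X.Modules} (a : A ⟶ E) (G : X.Modules) :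
    (ExtSupp.sheafHomMap (O := X.sheaf) a).app G ≫ (siteHomIso A).hom.app G =
      (siteHomIso E).hom.app G ≫ hMap a G := by
  refine hom_ext ?_
  have hu : ∀ M : X.Modules, uncurry ((siteHomIso M).hom.app G) =
      ((tensorBraiding (X := X)).app M).inv.app _ ≫ (ModSite.sheafHomAdj (O := X.sheaf) M).counit.app G := by
    intro M
    refine (Adjunction.rightAdjointUniq_hom_app_counit _ (DCoh.sheafHomAdj M) G).trans ?_
    rw [Adjunction.ofNatIsoLeft_counit]
    rfl
  rw [uncurry_comp, hu, uncurry_comp_hMap, hu]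
  have h1 := ((tensorBraiding (X := X)).app A).inv.naturality ((ExtSupp.sheafHomMap (O := X.sheaf) a).app G)
  refine ((reassoc_of% h1) _).trans ?_
  refine (congrArg (_ ≫ ·) (conjugateEquiv_counit (ModSite.sheafHomAdj (O := X.sheaf) E)
    (ModSite.sheafHomAdj (O := X.sheaf) A) _ G)).trans ?_
  refine (Category.assoc _ _ _).symm.trans (Eq.trans ?_ (Category.assoc _ _ _))
  refine congrArg (· ≫ _) ?_
  exact (NatTrans.congr_app ((tensorBraiding (X := X)).inv.naturality a) _).symm

/-- The canonical map to the double `G`-dual. -/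
def biMap (E G : X.Modules) : E ⟶ iHom (iHom E G) G := curry ((br (iHom E G) E).hom ≫ ev E G)

/-- The double `G`-dual of a map. -/
def biFun {A F : X.Modules} (a : A ⟶ F) (G : X.Modules) : iHom (iHom A G) G ⟶ iHom (iHom F G) G :=
  hMap (hMap a G) G

theorem biMap_natural {A F : X.Modules} (a : A ⟶ F) (G : X.Modules) :
    biMap A G ≫ biFun a G = a ≫ biMap F G := by
  refine hom_ext ?_
  rw [biFun, uncurry_comp_hMap, uncurry_comp, biMap, biMap, uncurry_curry, uncurry_curry, wh,
    tMap_left, tMap_right, ← Category.assoc, br_natural, Category.assoc, ← Category.assoc (tMap (𝟙 (iHom F G)) a),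
    br_natural, Category.assoc, ← tMap_right, ← tMap_left]
  exact congrArg ((br _ _).hom ≫ ·) (uncurry_hMap a G)

theorem biFun_sum {ι : Type*} [Fintype ι] {A F : X.Modules} (a : ι → (A ⟶ F)) (G : X.Modules) :
    biFun (∑ i, a i) G = ∑ i, biFun (a i) G := by
  simp only [biFun, hMap_sum]

theorem biFun_comp {A B F : X.Modules} (a : A ⟶ B) (b : B ⟶ F) (G : X.Modules) :
    biFun (a ≫ b) G = biFun a G ≫ biFun b G := by
  simp only [biFun, hMap_comp]

theorem biFun_id (A G : X.Modules) : biFun (𝟙 A) G = 𝟙 _ := by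
  simp only [biFun, hMap_id]

theorem isIso_biMap_structure {G : X.Modules} (hG : PicF.IsInvertible G) :
    IsIso (biMap (Coh.structureModule X) G) := by
  let O := Coh.structureModule X
  obtain ⟨d⟩ := nonempty_iHom_unit_iso (X := X) G
  have hI : PicF.IsInvertible (iHom O G) :=
    CurveMult.isInvertible_of_rank_one (GrassCat26.isFinLocFreeOfRank_of_iso d.symm (Euler.isFinLocFreeOfRank_one' hG))
  haveI := FundIso27.isEquivalence_tensor hI
  haveI : (T (iHom O G)).IsEquivalence :=
    Functor.isEquivalence_of_iso ((OX.tensorBraiding (X := X)).app (iHom O G))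
  haveI := isIso_ev_of_unit (Iso.refl O) G
  haveI : IsIso (ev (iHom O G) G) := inferInstance
  have h : IsIso (uncurry (biMap O G)) := by rw [biMap, uncurry_curry]; infer_instance
  haveI : IsIso ((T (iHom O G)).map (biMap O G)) := IsIso.of_isIso_comp_right _ (ev (iHom O G) G)
  exact isIso_of_reflects_iso _ (T (iHom O G))

theorem isIso_biMap_freeMod {G : X.Modules} (hG : PicF.IsInvertible G) (n : ℕ) :
    IsIso (biMap (FlatMod.freeMod X n) G) := by
  let O := Coh.structureModule X
  let ι := fun i => Sigma.ι (fun _ : Fin n => O) i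
  haveI := isIso_biMap_structure hG
  refine ⟨∑ i, biFun (freeProj X n i) G ≫ inv (biMap O G) ≫ ι i, ?_, ?_⟩
  · rw [Preadditive.comp_sum]
    refine (Finset.sum_congr rfl (g := fun i => freeProj X n i ≫ ι i) fun i _ => ?_).trans (freeProj_total X n)
    rw [← Category.assoc, biMap_natural, Category.assoc, IsIso.hom_inv_id_assoc]
  · rw [Preadditive.sum_comp]
    refine (Finset.sum_congr rfl (g := fun i => biFun (freeProj X n i) G ≫ biFun (ι i) G) fun i _ => ?_).trans ?_
    · rw [Category.assoc, Category.assoc, ← biMap_natural, IsIso.inv_hom_id_assoc]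
    · simp only [← biFun_comp]
      rw [← biFun_sum, freeProj_total, biFun_id]

theorem isIso_restrict_biMap_iff {G : X.Modules} {U : Scheme.{u}} (j : U ⟶ X) [IsOpenImmersion j] {A F : X.Modules}
    (a : A ⟶ F) (h : IsIso ((Scheme.Modules.restrictFunctor j).map a)) :
    IsIso ((Scheme.Modules.restrictFunctor j).map (biMap A G)) ↔
      IsIso ((Scheme.Modules.restrictFunctor j).map (biMap F G)) := by
  have h2 : IsIso ((Scheme.Modules.restrictFunctor j).map (biFun a G)) :=
    isIso_restrict_hMap j _ (isIso_restrict_hMap j a h _) _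
  have e := congrArg (Scheme.Modules.restrictFunctor j).map (biMap_natural a G)
  rw [Functor.map_comp, Functor.map_comp] at e
  constructor <;> intro hh
  · exact IsIso.of_isIso_fac_left e.symm
  · exact IsIso.of_isIso_fac_right e

theorem isIso_biMap {G : X.Modules} (hG : PicF.IsInvertible G) {E : X.Modules} (hE : FlatMod.IsFinLocFree E) :
    IsIso (biMap E G) := by
  refine (OX.isIso_iff _).2 fun x => ?_
  obtain ⟨U, n, hxU, ⟨e⟩⟩ := hE x
  let R := Scheme.Modules.restrictFunctor U.ι
  let e' : R.obj (FlatMod.freeMod X n) ≅ FlatMod.freeMod (U : Scheme.{u}) n :=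
    (Scheme.Modules.restrictFunctorIsoPullback U.ι).app _ ≪≫ pullFreeModIso U.ι n
  let c : R.obj E ≅ R.obj (FlatMod.freeMod X n) := e ≪≫ e'.symm
  let a₂ : (CxOX.extZero U.ι).obj (R.obj E) ⟶ FlatMod.freeMod X n :=
    (CxOX.extZero U.ι).map c.hom ≫ epsZ U.ι _
  have h₁ : IsIso (R.map (epsZ U.ι E)) := isIso_restrict_epsZ U.ι E
  have h₂ : IsIso (R.map a₂) := by
    have := isIso_restrict_epsZ U.ι (FlatMod.freeMod X n)
    simp only [a₂, Functor.map_comp]
    infer_instance
  have hfree : IsIso (R.map (biMap (FlatMod.freeMod X n) G)) := by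
    have := isIso_biMap_freeMod hG n
    infer_instance
  have hE' := (isIso_restrict_biMap_iff U.ι _ h₁).1 ((isIso_restrict_biMap_iff U.ι _ h₂).2 hfree)
  exact isIso_stalk_of_restrict U.ι _ hE' ⟨x, hxU⟩

open scoped Classical in
/-- `Ext¹(F, G)` from a resolution `0 → P₁ → P₀ → F → 0` by bundles. -/
theorem nonempty_extOne_iso [HasInjectiveResolutions X.Modules] {P₁ P₀ F : X.Modules} (d : P₁ ⟶ P₀) (π : P₀ ⟶ F)
    (w : d ≫ π = 0) (hS : (ShortComplex.mk d π w).ShortExact) (h₁ : FlatMod.IsFinLocFree P₁)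
    (h₀ : FlatMod.IsFinLocFree P₀) (G : X.Modules) [(DCoh.sheafHom F).Additive] :
    Nonempty (((DCoh.sheafHom F).rightDerived 1).obj G ≅ cokernel (hMap d G)) := by
  haveI : HasInjectiveResolutions (ModSite.Mod X.sheaf) := ‹HasInjectiveResolutions X.Modules›
  haveI : Epi π := hS.epi_g
  haveI : Mono d := hS.mono_f
  let idP : ∀ M : X.Modules, ModSite.sheafHom (O := X.sheaf) M ⋙ Scheme.Modules.pushforward (𝟙 X) ≅
      (DCoh.sheafHom M : X.Modules ⥤ X.Modules) := fun M =>
    Functor.isoWhiskerLeft (ModSite.sheafHom (O := X.sheaf) M) (Scheme.Modules.pushforwardId X) ≪≫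
      Functor.rightUnitor _ ≪≫ siteHomIso M
  have hadd : ∀ M : X.Modules, (HomSES20.Φ (𝟙 X) M).Additive := fun M =>
    haveI := (DCoh.sheafHomAdj M).right_adjoint_additive
    Functor.additive_of_iso (idP M).symm
  have hac : ∀ (M : X.Modules), FlatMod.IsFinLocFree M → ∀ p : ℕ,
      IsZero (((HomSES20.Φ (𝟙 X) M).rightDerived (p + 1)).obj G) := fun M hM p => by
    haveI := (DCoh.sheafHomAdj M).right_adjoint_additive
    haveI := hadd M
    haveI : PreservesFiniteColimits (DCoh.sheafHom M) := preservesFiniteColimits_sheafHom hM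
    haveI : PreservesFiniteLimits (DCoh.sheafHom M) :=
      haveI := (DCoh.sheafHomAdj M).rightAdjoint_preservesLimits
      inferInstance
    exact (LocZ.isZero_rightDerived_exact (A := X.Modules) (B := X.Modules) (DCoh.sheafHom M) G p).of_iso
      ((SheafCoh.rightDerivedCongr (idP M) (p + 1)).app G)
  let Z := FlatMod.freeMod X 0
  have hz : IsZero Z := (IsZero.iff_id_eq_zero _).2 (Sigma.hom_ext _ _ fun i => i.elim0)
  have hzf : FlatMod.IsFinLocFree Z := OX.isFinLocFree_freeMod X 0
  let R : HomSES20.Res (𝟙 X) G F :=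
    { L := fun j => match j with | 0 => P₀ | 1 => P₁ | _ + 2 => Z
      d := fun j => match j with | 0 => d | _ + 1 => 0
      π := π
      epi := inferInstance
      zero₀ := w
      exact₀ := hS.exact
      zero := fun j => match j with | 0 => Limits.zero_comp | _ + 1 => Limits.zero_comp
      exact := fun j => match j with
        | 0 => ((ShortComplex.mk (0 : Z ⟶ P₁) d Limits.zero_comp).exact_iff_mono rfl).2 inferInstance
        | _ + 1 => ShortComplex.exact_of_isZero_X₂ _ hz
      acyclic := fun j p => match j with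
        | 0 => hac _ h₀ p
        | 1 => hac _ h₁ p
        | _ + 2 => hac _ hzf p }
  obtain ⟨b⟩ := R.nonempty_homology_one_iso
  have hg : (R.sc 0).g = 0 := by
    refine IsZero.eq_of_tgt ?_ _ _
    exact ((IsZero.iff_id_eq_zero _).2 (by
      rw [← hMap_id, show 𝟙 Z = 0 from hz.eq_of_src _ _]
      exact map_zero (hMapHom Z Z G))).of_iso ((idP Z).app G)
  let c : cokernel (HomSES20.pre (𝟙 X) G d) ≅ cokernel (hMap d G) :=
    cokernel.mapIso _ _ ((idP P₀).app G) ((idP P₁).app G) (by
      dsimp [idP, HomSES20.pre]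
      simp only [Category.id_comp]
      refine (Category.assoc _ _ _).symm.trans ((congrArg (· ≫ _)
        ((Scheme.Modules.pushforwardId X).hom.naturality ((ExtSupp.sheafHomMap (O := X.sheaf) d).app G))).trans ?_)
      refine (Category.assoc _ _ _).trans ((congrArg (_ ≫ ·) (siteHomIso_hMap d G)).trans (Category.assoc _ _ _).symm))
  haveI := hadd F
  exact ⟨((SheafCoh.rightDerivedCongr (idP F) 1).app G).symm ≪≫ b.symm ≪≫
    (R.sc 0).asIsoHomologyι hg ≪≫ (R.sc 0).opcyclesIsoCokernel ≪≫ c⟩

/-- The transposed map of a resolution is a monomorphism when the internal Hom vanishes. -/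
theorem mono_hMap {P₁ P₀ F : X.Modules} (d : P₁ ⟶ P₀) (π : P₀ ⟶ F) (w : d ≫ π = 0)
    (hS : (ShortComplex.mk d π w).ShortExact) (G : X.Modules) (hz : IsZero (iHom F G)) : Mono (hMap d G) := by
  haveI : Epi π := hS.epi_g
  refine ⟨fun {P} k k' h => ?_⟩
  rw [← sub_eq_zero]
  obtain ⟨m, hm⟩ : ∃ m, m = k - k' := ⟨_, rfl⟩
  rw [← hm]
  have h0 : m ≫ hMap d G = 0 := by rw [hm, Preadditive.sub_comp, h, sub_self]
  let Fl := (DCoh.tensorBi (X := X)).flip.obj P
  haveI : PreservesColimitsOfSize.{0, 0} Fl := inferInstance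
  haveI : Fl.Additive := inferInstance
  haveI : Fl.PreservesEpimorphisms := inferInstance
  have h1 : Fl.map d ≫ uncurry m = 0 := by
    refine (uncurry_comp_hMap d G m).symm.trans ?_
    rw [h0]
    show (T P₁).map 0 ≫ _ = 0
    rw [Functor.map_zero, Limits.zero_comp]
  haveI : Epi (Fl.map π) := Fl.map_epi π
  have hx : ((ShortComplex.mk d π w).map Fl).Exact :=
    hS.exact.map_of_epi_of_preservesCokernel Fl inferInstance inferInstance
  haveI : Epi ((ShortComplex.mk d π w).map Fl).g := inferInstanceAs (Epi (Fl.map π))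
  let t : (T F).obj P ⟶ G := hx.desc (uncurry m) h1
  have ht : uncurry m = Fl.map π ≫ t := (hx.g_desc (uncurry m) h1).symm
  have ht0 : t = 0 := by
    rw [← uncurry_curry t, hz.eq_of_tgt (curry t) 0]
    show (T F).map 0 ≫ _ = 0
    rw [Functor.map_zero, Limits.zero_comp]
  refine hom_ext ?_
  rw [ht, ht0, Limits.comp_zero]
  show 0 = (T P₀).map 0 ≫ _
  rw [Functor.map_zero, Limits.zero_comp]

end GrothLib.ExtOne28
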