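import Groth.Agent.Lib.SerrePn27.ExtAsymp
import Groth.Agent.Lib.CodimExt27.Basic
import Groth.Agent.Lib.DualSm27.Serre

/-!
# First global Ext from first local Ext
-/

set_option autoImplicit false
set_option maxHeartbeats 1600000
set_option linter.style.haveILetI false
set_option linter.unusedSectionVars false
set_option backward.isDefEq.respectTransparency false

universe u

open CategoryTheory CategoryTheory.Limits AlgebraicGeometry Opposite TopologicalSpace
open CategoryTheory.Abelian (Ext)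

noncomputable section

namespace GrothLib.ExtOne28

open GrothLib.SerrePn27
open GrothLib.Cohom (hhMap)

variable {k : Type u} [CommRing k] {X : Scheme.{u}} [X.Over (Spec (CommRingCat.of k))]
  (F : X.Modules) [DCoh.HasSheafHom F] [HasExt.{u} X.Modules] [HasInjectiveResolutions X.Modules]
  [(DCoh.sheafHom F).Additive] [PreservesFiniteLimits (DCoh.sheafHom F)]

/-- `Ext¹` is the sections of the first local Ext when the sheaf Hom has no higher cohomology. -/
theorem nonempty_ext_one (G : X.Modules) (hG : HAcyclic ((DCoh.sheafHom F).obj G)) :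
    Nonempty (Ext F G 1 ≃ₗ[k] Coh.HH X (((DCoh.sheafHom F).rightDerived 1).obj G) 0) := by
  haveI : EnoughInjectives X.Modules := SheafCoh.enoughInjectives_sheafOfModules X.ringCatSheaf
  let D := DCoh.sheafHom F
  let I : InjectivePresentation G := Classical.arbitrary _
  let S := ShortComplex.mk _ _ (cokernel.condition I.f)
  have hS : S.ShortExact := { exact := ShortComplex.exact_cokernel I.f }
  haveI : Injective I.J := I.injective
  haveI : Injective S.X₂ := I.injective
  haveI : Mono S.f := hS.mono_f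
  have hI : HAcyclic (D.obj S.X₂) := hAcyclic_sheafHom_injective (k := k) F I.J
  have hG0 : HAcyclic (D.obj S.X₁) := hG
  -- the image of `D I → D Q`
  let p := Abelian.factorThruImage (D.map S.g)
  have hex : (S.map D).Exact :=
    ShortComplex.exact_of_f_is_kernel _ (isLimitForkMapOfIsLimit' D S.zero hS.fIsKernel)
  have hzero : D.map S.f ≫ p = 0 := by
    rw [← cancel_mono (Abelian.image.ι (D.map S.g)), Category.assoc, Abelian.image.fac, zero_comp, ← D.map_comp,
      S.zero, D.map_zero]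
  have hS₁ : (ShortComplex.mk (D.map S.f) p hzero).ShortExact := by
    haveI : Mono (D.map S.f) := inferInstance
    refine { exact := ?_ }
    let η : ShortComplex.mk (D.map S.f) p hzero ⟶ S.map D :=
      { τ₁ := 𝟙 _
        τ₂ := 𝟙 _
        τ₃ := Abelian.image.ι (D.map S.g)
        comm₁₂ := by simp
        comm₂₃ := by
          show 𝟙 _ ≫ D.map S.g = p ≫ Abelian.image.ι (D.map S.g)
          rw [Category.id_comp, Abelian.image.fac] }
    haveI : Epi η.τ₁ := inferInstanceAs (Epi (𝟙 _))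
    haveI : IsIso η.τ₂ := inferInstanceAs (IsIso (𝟙 _))
    haveI : Mono η.τ₃ := inferInstanceAs (Mono (Abelian.image.ι (D.map S.g)))
    exact (ShortComplex.exact_iff_of_epi_of_isIso_of_mono η).2 hex
  have hS₂ : (ShortComplex.mk (Abelian.image.ι (D.map S.g)) (cokernel.π (D.map S.g)) (kernel.condition _)).ShortExact :=
    { exact := ShortComplex.exact_of_f_is_kernel _ (kernelIsKernel _) }
  have hB : HAcyclic (Abelian.image (D.map S.g)) := HAcyclic.X₃ (k := k) hS₁ hG0 hI
  obtain ⟨e1⟩ := nonempty_rightDerived_one_iso D hS (Functor.isZero_rightDerived_obj_injective_succ D 0 I.J)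
  let δE : Ext F S.X₃ 0 →ₗ[k] Ext F S.X₁ 1 := Ext.postcompOfLinear hS.extClass k F rfl
  have hδE : Function.Surjective δE := fun x =>
    Ext.covariant_sequence_exact₁ _ hS x (Ext.eq_zero_of_injective _) rfl
  let E₀ : Ext F S.X₃ 0 ≃ₗ[k] Coh.HH X (D.obj S.X₃) 0 := Ext.linearEquiv₀ ≪≫ₗ homEquivHH F S.X₃
  let Φ : Ext F S.X₃ 0 →ₗ[k] Coh.HH X (cokernel (D.map S.g)) 0 :=
    (hhMap k (cokernel.π (D.map S.g)) 0).comp E₀.toLinearMap
  have hΦ : Function.Surjective Φ := (surjective_hhMap_zero (k := k) hS₂ hB).comp E₀.surjective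
  obtain ⟨e⟩ := nonempty_equiv_of_ker_eq' δE Φ hδE hΦ (Submodule.ext fun x => by
    obtain ⟨φ, rfl⟩ : ∃ φ, Ext.mk₀ φ = x := (Ext.mk₀_bijective _ _).2 x
    have hE₀ : E₀ (Ext.mk₀ φ) = homEquivHH (k := k) F S.X₃ φ := by
      show homEquivHH (k := k) F S.X₃ (Ext.linearEquiv₀ (R := k) (Ext.mk₀ φ)) = _
      rw [← Ext.linearEquiv₀_symm_apply (R := k), LinearEquiv.apply_symm_apply]
    show δE (Ext.mk₀ φ) = 0 ↔ hhMap k (cokernel.π (D.map S.g)) 0 (E₀ (Ext.mk₀ φ)) = 0
    rw [show hhMap k (cokernel.π (D.map S.g)) 0 (E₀ (Ext.mk₀ φ)) =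
      hhMap k (cokernel.π (D.map S.g)) 0 (homEquivHH (k := k) F S.X₃ φ) from congrArg _ hE₀]
    constructor
    · intro h
      obtain ⟨z, hz⟩ := Ext.covariant_sequence_exact₃ _ hS (Ext.mk₀ φ) rfl h
      obtain ⟨ψ, rfl⟩ : ∃ ψ, Ext.mk₀ ψ = z := (Ext.mk₀_bijective _ _).2 z
      rw [Ext.mk₀_comp_mk₀] at hz
      rw [← (Ext.mk₀_bijective _ _).1 hz, homEquivHH_comp, ← hhMap_comp, cokernel.condition, hhMap_zero]
      rfl
    · intro h
      obtain ⟨w, hw⟩ := ((Cohom.exact₂ (A := k) hS₂ 0) _).1 h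
      obtain ⟨v, rfl⟩ := surjective_hhMap_zero (k := k) hS₁ hG0 w
      obtain ⟨ψ, rfl⟩ := (homEquivHH (k := k) F S.X₂).surjective v
      have e : φ = ψ ≫ S.g := by
        refine (homEquivHH (k := k) F S.X₃).injective ?_
        rw [homEquivHH_comp, ← hw, ← hhMap_comp, Abelian.image.fac]
      show (Ext.mk₀ φ).comp hS.extClass (rfl : 0 + 1 = 0 + 1) = 0
      rw [e, ← Ext.mk₀_comp_mk₀, Ext.comp_assoc_of_second_deg_zero, hS.comp_extClass, Ext.comp_zero])
  exact ⟨e ≪≫ₗ hhMapEquiv e1.symm 0⟩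

end GrothLib.ExtOne28
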